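import Cfsg.Agent.Lib.Helper19.Solz.Defs
import Cfsg.Agent.S0266
import Cfsg.Agent.S0810
import Cfsg.Agent.S5893

set_option autoImplicit false

namespace Cfsg.Agent.Lib.Helper19.Solz

universe u

/-- `Ω = Projectivization F (Fin 2 → F)` (`Projectivization.card_of_finrank_two`), action through
`Cfsg.Agent.Lib.Helper41.Dickson.psl_equiv_pgl_of_even` (`MulAction.compHom`), `fix3` from `Cfsg.Agent.S0266.result`,
order from `Cfsg.Agent.Lib.Helper41.Dickson.natCard_PSL2` / `Cfsg.Agent.S5893.card_psl_even`. -/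
theorem exists_S3 (p : ℕ) (hp : p.Prime) {F : Type u} [Field F] [Fintype F] (hF : Fintype.card F = 2 ^ p) :
    ∃ (Ω : Type u) (_ : MulAction (Matrix.ProjectiveSpecialLinearGroup (Fin 2) F) Ω),
      S3 (Matrix.ProjectiveSpecialLinearGroup (Fin 2) F) Ω (2 ^ p) := by
  have heven : Even (Fintype.card F) := by
    rw [hF]; exact (Nat.even_pow.2 ⟨even_two, hp.ne_zero⟩)
  have heven' : Even (Nat.card F) := by rw [Nat.card_eq_fintype_card]; exact heven
  have h4 : 4 ≤ 2 ^ p := by
    calc 4 = 2 ^ 2 := rfl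
      _ ≤ 2 ^ p := Nat.pow_le_pow_right (by norm_num) hp.two_le
  obtain ⟨e⟩ := Cfsg.Agent.Lib.Helper41.Dickson.psl_equiv_pgl_of_even F heven'
  refine ⟨Projectivization F (Fin 2 → F), MulAction.compHom _ e.toMonoidHom, ?_⟩
  letI := MulAction.compHom (Projectivization F (Fin 2 → F)) e.toMonoidHom
  refine ⟨inferInstance, inferInstance, h4, ⟨p, rfl⟩, ?_, ?_, ?_⟩
  · have h2 : Module.finrank F (Fin 2 → F) = 2 := by simp
    rw [Projectivization.card_of_finrank_two (k := F) (V := Fin 2 → F) h2, Nat.card_eq_fintype_card, hF]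
  · rw [Cfsg.Agent.S5893.card_psl_even heven, hF]
    obtain ⟨m, hm⟩ : ∃ m, 2 ^ p = m + 1 := ⟨2 ^ p - 1, by omega⟩
    rw [hm]
    have : (m + 1) ^ 2 - 1 = (m + 1 + 1) * m := by
      have : (m + 1) ^ 2 = (m + 1 + 1) * m + 1 := by ring
      omega
    rw [this, Nat.add_sub_cancel]
    ring
  · intro g a b c hab hac hbc ha hb hc
    have := (Cfsg.Agent.S0266.result).2 (e g) a b c hab hac hbc ha hb hc
    exact e.injective (by rw [this, map_one])

end Cfsg.Agent.Lib.Helper19.Solz
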