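import Cfsg.Agent.Lib.Helper19.Solz.Defs
import Cfsg.Agent.S0266
import Cfsg.Agent.S0810
import Cfsg.Agent.S5893

set_option autoImplicit false

namespace Cfsg.Agent.Lib.Helper19.Solz

universe u

/-- `proper_solv`, `not_solv` from `Cfsg.Agent.S0810.result` (minimal simple) and
`Cfsg.Agent.Lib.Helper41.Dickson.psl2_not_solvable`; `coatom` from `Cfsg.Agent.S5893.result`, whose last case
(`2 ^ p = |F₀| ^ r`, `r` prime, `|F₀| ≠ 2`) is impossible for `p` prime. -/
theorem maxH (p : ℕ) (hp : p.Prime) {F : Type u} [Field F] [Fintype F] (hF : Fintype.card F = 2 ^ p) :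
    MaxH (Matrix.ProjectiveSpecialLinearGroup (Fin 2) F) (2 ^ p) := by
  have hms : Cfsg.IsMinimalSimple (Matrix.ProjectiveSpecialLinearGroup (Fin 2) F) :=
    (Cfsg.Agent.S0810.result hF).2 (Or.inl ⟨p, hp, rfl⟩)
  have h4 : 4 ≤ Fintype.card F := by
    rw [hF]
    calc 4 = 2 ^ 2 := rfl
      _ ≤ 2 ^ p := Nat.pow_le_pow_right (by norm_num) hp.two_le
  refine ⟨hms.2.2, Cfsg.Agent.Lib.Helper41.Dickson.psl2_not_solvable h4, ?_⟩
  intro M hM
  have heven : Even (Fintype.card F) := by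
    rw [hF]; exact (Nat.even_pow.2 ⟨even_two, hp.ne_zero⟩)
  rcases Cfsg.Agent.S5893.result heven h4 M hM with h | h | h | ⟨F₀, _, _, r, hr, h2, hc, -⟩
  · left; rw [← hF]; exact h
  · right; left; rw [← hF]; exact h
  · right; right; rw [← hF]; exact h
  · exfalso
    rw [hF] at hc
    have hd : Fintype.card F₀ ∣ 2 ^ p := by rw [hc]; exact dvd_pow_self _ hr.ne_zero
    obtain ⟨j, hj, hj'⟩ := (Nat.dvd_prime_pow Nat.prime_two).1 hd
    rw [hj', ← pow_mul] at hc
    have hpj : p = j * r := Nat.pow_right_injective (le_refl 2) hc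
    have hjp : j ∣ p := ⟨r, hpj⟩
    rcases (Nat.dvd_prime hp).1 hjp with rfl | rfl
    · exact h2 (by rw [hj', pow_one])
    · have : r = 1 := Nat.eq_of_mul_eq_mul_left hp.pos (by rw [← hpj, mul_one])
      exact hr.one_lt.ne' this

end Cfsg.Agent.Lib.Helper19.Solz
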